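import Mathlib
import Cfsg.Agent.Lib.PUnique.Basic
import Cfsg.Prelude.Def_Transfer

/-!
# Groups in which `p`-subgroups of equal order are conjugate: Sylow structure

The part that only looks inside one Sylow subgroup.
-/

set_option autoImplicit false

namespace Cfsg.Agent.Lib.EqualOrderConj

open Subgroup

variable {G : Type*} [Group G] [Finite G]

/-- Any two `p`-subgroups of equal order are conjugate. -/
def ConjEq (p : ℕ) (G : Type*) [Group G] : Prop :=
  ∀ H K : Subgroup G, IsPGroup p H → IsPGroup p K → Nat.card H = Nat.card K →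
    ∃ g : G, K = H.map (MulAut.conj g).toMonoidHom

variable {p : ℕ} [hp : Fact p.Prime]

theorem ConjEq.pow_eq_one (h : ConjEq p G) {H K : Subgroup G} (hH : IsPGroup p H)
    (hK : IsPGroup p K) (hc : Nat.card H = Nat.card K) (he : ∀ x ∈ H, x ^ p = 1) :
    ∀ x ∈ K, x ^ p = 1 := by
  obtain ⟨g, rfl⟩ := h H K hH hK hc
  rintro _ ⟨y, hy, rfl⟩
  rw [← map_pow, he y hy, map_one]

theorem ConjEq.commutes (h : ConjEq p G) {H K : Subgroup G} (hH : IsPGroup p H)
    (hK : IsPGroup p K) (hc : Nat.card H = Nat.card K)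
    (he : ∀ x ∈ H, ∀ y ∈ H, x * y = y * x) : ∀ x ∈ K, ∀ y ∈ K, x * y = y * x := by
  obtain ⟨g, rfl⟩ := h H K hH hK hc
  rintro _ ⟨a, ha, rfl⟩ _ ⟨b, hb, rfl⟩
  rw [← map_mul, ← map_mul, he a ha b hb]

/-- A `p`-subgroup of order at least `p ^ k` has a subgroup of order `p ^ k`. -/
theorem exists_sub_card {H : Subgroup G} (hH : IsPGroup p H) {k : ℕ}
    (hk : p ^ k ≤ Nat.card H) : ∃ K ≤ H, Nat.card K = p ^ k := by
  obtain ⟨n, hn⟩ := (IsPGroup.iff_card.1 hH)
  have hkn : k ≤ n := by
    rw [hn] at hk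
    exact (Nat.pow_le_pow_iff_right hp.out.one_lt).1 hk
  obtain ⟨K, hK⟩ := Sylow.exists_subgroup_card_pow_prime p
    (show p ^ k ∣ Nat.card H by rw [hn]; exact pow_dvd_pow p hkn)
  refine ⟨K.map H.subtype, Subgroup.map_subtype_le K, ?_⟩
  rw [← hK]
  exact Nat.card_congr (K.equivMapOfInjective _ H.subtype_injective).toEquiv.symm

/-- A `p`-subgroup strictly containing a subgroup of order at least `p ^ k` has order at least `p ^ (k+1)`. -/
theorem pow_succ_le {A B : Subgroup G} (hB : IsPGroup p B) {k : ℕ} (hk : p ^ k ≤ Nat.card A)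
    (h : A < B) : p ^ (k + 1) ≤ Nat.card B := by
  obtain ⟨n, hn⟩ := IsPGroup.iff_card.1 hB
  obtain ⟨m, hm⟩ := IsPGroup.iff_card.1 (hB.to_le h.le)
  have hlt : Nat.card A < Nat.card B :=
    lt_of_le_of_ne (card_le_of_le h.le) fun e => h.ne (eq_of_le_of_card_ge h.le e.ge)
  rw [hn, hm] at hlt
  rw [hm] at hk
  rw [hn]
  have h1 := (Nat.pow_lt_pow_iff_right hp.out.one_lt).1 hlt
  have h2 := (Nat.pow_le_pow_iff_right hp.out.one_lt).1 hk
  exact Nat.pow_le_pow_right hp.out.pos (by omega)

/-- The order of a product with a normalising subgroup. -/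
theorem card_sup_le {A B : Subgroup G} (h : B ≤ normalizer (A : Set G)) :
    Nat.card ↥(A ⊔ B) ≤ Nat.card A * Nat.card B := by
  rw [← Nat.card_prod]
  refine Nat.card_le_card_of_surjective
    (fun x : A × B => (⟨(x.1 : G) * x.2, mul_mem_sup x.1.2 x.2.2⟩ : ↥(A ⊔ B))) ?_
  rintro ⟨x, hx⟩
  have : x ∈ ((A ⊔ B : Subgroup G) : Set G) := hx
  rw [coe_mul_of_right_le_normalizer_left A B h] at this
  obtain ⟨a, ha, b, hb, rfl⟩ := this
  exact ⟨(⟨a, ha⟩, ⟨b, hb⟩), rfl⟩

theorem card_zpowers_le {x : G} (hx : x ^ p = 1) : Nat.card (zpowers x) ≤ p := by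
  rw [Nat.card_zpowers]
  exact Nat.le_of_dvd hp.out.pos (orderOf_dvd_of_pow_eq_one hx)

/-- The subgroup generated by a commutative set is commutative. -/
theorem closure_commutes {s : Set G} (h : ∀ x ∈ s, ∀ y ∈ s, x * y = y * x) :
    ∀ x ∈ closure s, ∀ y ∈ closure s, x * y = y * x := by
  intro x hx y hy
  have h1 : s ⊆ (centralizer s : Set G) := fun a ha => mem_centralizer_iff.2 fun b hb => h b hb a ha
  have h2 : closure s ≤ centralizer s := (closure_le _).2 h1
  have h3 : closure s ≤ centralizer (closure s : Set G) := by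
    rw [centralizer_closure]
    exact h2
  exact (mem_centralizer_iff.1 (h3 hy) x hx)

/-- A generalized quaternion group of order at least `16` contains a copy of `Q₈`. -/
theorem exists_q8_hom (n : ℕ) (hn : 1 ≤ n) :
    ∃ f : QuaternionGroup 2 →* QuaternionGroup (2 ^ n), Function.Injective f := by
  obtain ⟨m, rfl⟩ : ∃ m, n = m + 1 := ⟨n - 1, by omega⟩
  let c : ZMod (2 * 2) →+ ZMod (2 * 2 ^ (m + 1)) :=
    ZMod.lift (2 * 2) ⟨(Int.castAddHom (ZMod (2 * 2 ^ (m + 1)))).comp (AddMonoidHom.mulLeft (2 ^ m : ℤ)), by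
      simp only [AddMonoidHom.coe_comp, Function.comp_apply, AddMonoidHom.coe_mulLeft,
        Int.coe_castAddHom]
      rw [ZMod.intCast_zmod_eq_zero_iff_dvd]
      push_cast
      exact ⟨1, by ring⟩⟩
  have hc : ∀ i : ℤ, c (i : ZMod (2 * 2)) = ((2 ^ m * i : ℤ) : ZMod (2 * 2 ^ (m + 1))) := by
    intro i
    simp only [c, ZMod.lift_coe]
    rfl
  have hinj : Function.Injective c := by
    rw [injective_iff_map_eq_zero]
    intro a ha
    obtain ⟨i, rfl⟩ := ZMod.intCast_surjective a
    rw [hc, ZMod.intCast_zmod_eq_zero_iff_dvd] at ha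
    rw [ZMod.intCast_zmod_eq_zero_iff_dvd]
    push_cast at ha ⊢
    have h4 : (2 : ℤ) ^ m * (2 * 2) ∣ 2 ^ m * i := by
      refine Dvd.dvd.trans ?_ ha
      exact ⟨1, by ring⟩
    exact Int.dvd_of_mul_dvd_mul_left (by positivity) h4
  have h2 : c 2 = ((2 ^ (m + 1) : ℕ) : ZMod (2 * 2 ^ (m + 1))) := by
    rw [show (2 : ZMod (2 * 2)) = ((2 : ℤ) : ZMod (2 * 2)) by norm_num, hc]
    push_cast
    ring
  refine ⟨MonoidHom.mk' (fun x => match x with
    | .a i => .a (c i)
    | .xa i => .xa (c i)) ?_, ?_⟩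
  · rintro (i | i) (j | j) <;>
      simp only [QuaternionGroup.a_mul_a, QuaternionGroup.a_mul_xa, QuaternionGroup.xa_mul_a,
        QuaternionGroup.xa_mul_xa, map_add, map_sub] <;>
      first
        | rfl
        | (rw [show ((2 : ℕ) : ZMod (2 * 2)) = 2 from Nat.cast_ofNat, h2])
  · rintro (i | i) (j | j) h <;> simp at h <;> first | exact congrArg _ (hinj h) | skip

theorem q8_noncomm :
    QuaternionGroup.a (1 : ZMod (2 * 2)) * QuaternionGroup.xa 0 ≠
      (QuaternionGroup.xa 0 * QuaternionGroup.a 1 : QuaternionGroup 2) := by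
  decide

/-- A Sylow subgroup is cyclic, quaternion of order eight, or of exponent `p`. -/
theorem cyclic_or_q8_or_exponent (h : ConjEq p G) {P : Subgroup G} (hP : IsPGroup p P) :
    IsCyclic P ∨ Nonempty (P ≃* QuaternionGroup 2) ∨ ∀ x ∈ P, x ^ p = 1 := by
  by_cases huniq : ∀ A B : Subgroup P, Nat.card A = p → Nat.card B = p → A = B
  · rcases PUnique.isCyclic_or_quaternion hP huniq with hc | ⟨rfl, n, ⟨e⟩⟩
    · exact Or.inl hc
    rcases Nat.lt_trichotomy n 1 with hn | rfl | hn
    · obtain rfl : n = 0 := by omega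
      have : IsCyclic (QuaternionGroup (2 ^ 0)) := QuaternionGroup.quaternionGroup_one_isCyclic
      exact Or.inl (isCyclic_of_surjective e.symm.toMonoidHom e.symm.surjective)
    · exact Or.inr (Or.inl ⟨e⟩)
    · exfalso
      obtain ⟨f, hf⟩ := exists_q8_hom n (by omega)
      let φ : QuaternionGroup 2 →* G := P.subtype.comp (e.symm.toMonoidHom.comp f)
      have hφ : Function.Injective φ :=
        P.subtype_injective.comp (e.symm.injective.comp hf)
      -- the subgroup `⟨a^(2^(n-2))⟩` is cyclic of order eight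
      have hcard8 : Nat.card φ.range = 8 := by
        rw [← Nat.card_congr (φ.ofInjective hφ).toEquiv, Nat.card_eq_fintype_card, QuaternionGroup.card]
      let b : QuaternionGroup (2 ^ n) := QuaternionGroup.a 1
      have hb : orderOf ((e.symm b : P) : G) = 2 * 2 ^ n := by
        rw [orderOf_coe, MulEquiv.orderOf_eq]
        exact QuaternionGroup.orderOf_a_one
      let c : G := ((e.symm b : P) : G) ^ (2 ^ (n - 2))
      have hc : orderOf c = 8 := by
        show orderOf (_ ^ _) = 8
        rw [orderOf_pow' _ (by positivity), hb]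
        have h1 : 2 * 2 ^ n = 2 ^ (n - 2) * 8 := by
          rw [show (8 : ℕ) = 2 ^ 3 by norm_num, ← pow_add, ← pow_succ']
          congr 1
          omega
        rw [h1, Nat.gcd_mul_right_left, Nat.mul_div_cancel_left _ (by positivity)]
      have hcP : zpowers c ≤ P := zpowers_le.2 (pow_mem (SetLike.coe_mem _) _)
      have hrP : φ.range ≤ P := by rintro _ ⟨x, rfl⟩; exact SetLike.coe_mem _
      have := h.commutes (hP.to_le hcP) (hP.to_le hrP)
        (by rw [Nat.card_zpowers, hc, hcard8])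
        (by
          rintro _ ⟨i, rfl⟩ _ ⟨j, rfl⟩
          simp only
          rw [← zpow_add, ← zpow_add, add_comm])
        _ ⟨QuaternionGroup.a 1, rfl⟩ _ ⟨QuaternionGroup.xa 0, rfl⟩
      rw [← map_mul, ← map_mul] at this
      exact q8_noncomm (hφ this)
  · refine Or.inr (Or.inr fun x hx => ?_)
    push Not at huniq
    obtain ⟨A, B, hA, hB, hAB⟩ := huniq
    haveI : Nontrivial P := by
      rw [← Finite.one_lt_card_iff_nontrivial]
      exact lt_of_lt_of_le (hA ▸ hp.out.one_lt) (card_le_card_group A)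
    haveI := hP.center_nontrivial
    obtain ⟨k, hk⟩ := IsPGroup.iff_card.1 (hP.to_subgroup (Subgroup.center P))
    have hk0 : k ≠ 0 := by
      rintro rfl
      rw [pow_zero] at hk
      exact (Finite.one_lt_card (α := Subgroup.center P)).ne' hk
    obtain ⟨z, hz⟩ := exists_prime_orderOf_dvd_card' (G := Subgroup.center P) p
      (by rw [hk]; exact dvd_pow_self p hk0)
    -- one of the two subgroups does not lie in `⟨z⟩`
    have hzA : ∃ a : P, orderOf a = p ∧ a ∉ zpowers (z : P) := by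
      have hcz : Nat.card (zpowers (z : P)) = p := by rw [Nat.card_zpowers, orderOf_coe, hz]
      have key : ∀ C : Subgroup P, Nat.card C = p → C ≠ zpowers (z : P) →
          ∃ a : P, orderOf a = p ∧ a ∉ zpowers (z : P) := by
        intro C hC hne
        obtain ⟨a, haC, ha⟩ := SetLike.not_le_iff_exists.1
          (fun hle : C ≤ zpowers (z : P) => hne (eq_of_le_of_card_ge hle (by rw [hC, hcz])))
        refine ⟨a, ?_, ha⟩
        have hdvd : orderOf a ∣ p := by
          rw [← hC, ← Subgroup.orderOf_mk a haC]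
          exact orderOf_dvd_natCard _
        rcases (Nat.dvd_prime hp.out).1 hdvd with h1 | h1
        · exact absurd (orderOf_eq_one_iff.1 h1 ▸ one_mem _) ha
        · exact h1
      by_cases hAz : A = zpowers (z : P)
      · exact key B hB fun e => hAB (hAz.trans e.symm)
      · exact key A hA hAz
    obtain ⟨a, ha, haz⟩ := hzA
    let zG : G := ((z : P) : G)
    let aG : G := (a : G)
    have hzp : zG ^ p = 1 := by
      rw [← hz, ← orderOf_coe z, ← orderOf_coe (z : P)]
      exact pow_orderOf_eq_one _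
    have hap : aG ^ p = 1 := by rw [← ha, ← orderOf_coe a]; exact pow_orderOf_eq_one _
    have hcom : zG * aG = aG * zG :=
      congrArg Subtype.val (Subgroup.mem_center_iff.1 z.2 a).symm
    let E : Subgroup G := closure {zG, aG}
    have hEP : E ≤ P := (closure_le _).2 (by
      rintro y (rfl | rfl)
      · exact SetLike.coe_mem _
      · exact SetLike.coe_mem _)
    have hEc : ∀ u ∈ E, ∀ v ∈ E, u * v = v * u := closure_commutes (by
      rintro u (rfl | rfl) v (rfl | rfl) <;> first | rfl | exact hcom | exact hcom.symm)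
    have hEe : ∀ u ∈ E, u ^ p = 1 := by
      intro u hu
      induction hu using closure_induction with
      | mem y hy => rcases hy with rfl | rfl <;> assumption
      | one => exact one_pow p
      | mul u v hu hv iu iv => rw [(show Commute u v from hEc u hu v hv).mul_pow, iu, iv, one_mul]
      | inv u _ iu => rw [inv_pow, iu, inv_one]
    have hE2 : p ^ 2 ≤ Nat.card E := by
      refine pow_succ_le (hP.to_le hEP) (A := zpowers zG) ?_ (lt_of_le_of_ne ?_ ?_)
      · rw [pow_one, Nat.card_zpowers, orderOf_coe, orderOf_coe, hz]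
      · exact zpowers_le.2 (subset_closure (by simp))
      · intro e
        have : aG ∈ zpowers zG := e ▸ subset_closure (by simp)
        obtain ⟨i, hi⟩ := this
        exact haz ⟨i, Subtype.ext (by simpa [zG] using hi)⟩
    obtain ⟨E', hE', hE'c⟩ := exists_sub_card (hP.to_le hEP) hE2
    obtain ⟨j, hj⟩ := (Nat.dvd_prime_pow hp.out).1
      (show orderOf x ∣ p ^ (IsPGroup.iff_card.1 hP).choose by
        rw [← (IsPGroup.iff_card.1 hP).choose_spec, ← Subgroup.orderOf_mk x hx]
        exact orderOf_dvd_natCard _)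
    by_contra hx1
    have hj2 : 2 ≤ j := by
      by_contra hlt
      apply hx1
      apply orderOf_dvd_iff_pow_eq_one.1
      rw [hj.2]
      calc p ^ j ∣ p ^ 1 := pow_dvd_pow p (by omega)
        _ = p := pow_one p
    let y : G := x ^ (p ^ (j - 2))
    have hy : orderOf y = p ^ 2 := by
      show orderOf (x ^ _) = _
      rw [orderOf_pow' _ (pow_ne_zero _ hp.out.ne_zero), hj.2,
        Nat.gcd_eq_right (pow_dvd_pow p (by omega)), Nat.pow_div (by omega) hp.out.pos]
      congr 1
      omega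
    have hyP : zpowers y ≤ P := zpowers_le.2 (pow_mem hx _)
    have := h.pow_eq_one (hP.to_le (hE'.trans hEP)) (hP.to_le hyP)
      (by rw [hE'c, Nat.card_zpowers, hy]) (fun u hu => hEe u (hE' hu)) y (mem_zpowers y)
    have hd := orderOf_dvd_of_pow_eq_one this
    rw [hy] at hd
    have := Nat.le_of_dvd hp.out.pos hd
    nlinarith [hp.out.two_le]

/-- What is known about a non-abelian Sylow subgroup of exponent `p`. -/
structure Cube (p : ℕ) (P : Subgroup G) (z : G) : Prop where
  mem : z ∈ P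
  ord : orderOf z = p
  cent : ∀ g ∈ P, g * z = z * g
  comm : ∀ g ∈ P, ∀ h ∈ P, g * h * g⁻¹ * h⁻¹ ∈ zpowers z
  card : Nat.card P = p ^ 3
  self : ∀ E : Subgroup G, E ≤ P → Nat.card E = p ^ 2 →
    (∀ g ∈ P, (∀ e ∈ E, g * e = e * g) → g ∈ E) ∧ z ∈ E ∧ ∀ e ∈ E, ∀ f ∈ E, e * f = f * e
  exp : ∀ g ∈ P, g ^ p = 1
  outer : ∃ u ∈ P, u ∉ zpowers z

/-- A non-abelian Sylow subgroup of exponent `p` has order `p ^ 3`. -/
theorem exists_cube (h : ConjEq p G) {P : Subgroup G} (hP : IsPGroup p P)
    (hexp : ∀ x ∈ P, x ^ p = 1) (hna : ¬ ∀ x ∈ P, ∀ y ∈ P, x * y = y * x) :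
    ∃ z : G, Cube p P z := by
  haveI := hP.isNilpotent
  -- an element of the second centre
  have hZ : Subgroup.center P ≠ ⊤ := by
    intro e
    apply hna
    intro x hx y hy
    have := Subgroup.mem_center_iff.1 (e ▸ mem_top (⟨y, hy⟩ : P)) ⟨x, hx⟩
    exact congrArg Subtype.val this
  haveI : Nontrivial (P ⧸ Subgroup.center P) := QuotientGroup.nontrivial_iff.2 hZ
  haveI := (hP.to_quotient (Subgroup.center P)).center_nontrivial
  obtain ⟨⟨ub, hub⟩, hne⟩ := exists_ne (1 : Subgroup.center (P ⧸ Subgroup.center P))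
  obtain ⟨⟨u, huP⟩, rfl⟩ := QuotientGroup.mk'_surjective _ ub
  have huZ : (⟨u, huP⟩ : P) ∉ Subgroup.center P := fun hm =>
    hne (Subtype.ext ((QuotientGroup.eq_one_iff _).2 hm))
  have hu2 : ∀ g ∈ P, ∀ k ∈ P, k * (u * g * u⁻¹ * g⁻¹) = u * g * u⁻¹ * g⁻¹ * k := by
    intro g hg k hk
    have hm : (⟨u, huP⟩ * ⟨g, hg⟩ * ⟨u, huP⟩⁻¹ * ⟨g, hg⟩⁻¹ : P) ∈ Subgroup.center P := by
      rw [← QuotientGroup.eq_one_iff]
      have := Subgroup.mem_center_iff.1 hub (QuotientGroup.mk' _ ⟨g, hg⟩)
      simp only [QuotientGroup.mk'_apply] at this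
      simp only [QuotientGroup.mk_mul, QuotientGroup.mk_inv, ← this]
      group
    exact congrArg Subtype.val (Subgroup.mem_center_iff.1 hm ⟨k, hk⟩)
  rw [Subgroup.mem_center_iff] at huZ
  push Not at huZ
  obtain ⟨⟨v, hvP⟩, hv⟩ := huZ
  have hvu : v * u ≠ u * v := fun e => hv (Subtype.ext e)
  let z : G := u * v * u⁻¹ * v⁻¹
  have hzP : z ∈ P := mul_mem (mul_mem (mul_mem huP hvP) (inv_mem huP)) (inv_mem hvP)
  have hzc : ∀ g ∈ P, g * z = z * g := fun g hg => hu2 v hvP g hg
  have hz1 : z ≠ 1 := fun e => hvu (by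
    have : u * v * u⁻¹ * v⁻¹ = 1 := e
    rw [mul_inv_eq_one, mul_inv_eq_iff_eq_mul] at this
    exact this.symm)
  have hzord : orderOf z = p := orderOf_eq_prime (hexp z hzP) hz1
  have hzcard : Nat.card (zpowers z) = p := by rw [Nat.card_zpowers, hzord]
  have huz : u ∉ zpowers z := by
    rintro ⟨i, hi⟩
    apply hvu
    rw [← hi]
    exact ((show Commute v z from hzc v hvP).zpow_right i).eq
  -- the abelian subgroup `E₀`
  let E₀ : Subgroup G := zpowers z ⊔ zpowers u
  have hE0P : E₀ ≤ P := sup_le (zpowers_le.2 hzP) (zpowers_le.2 huP)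
  have hnU : zpowers u ≤ normalizer (zpowers z : Set G) := by
    refine zpowers_le.2 (mem_normalizer_iff.2 fun n => ?_)
    have hu' : ∀ n ∈ zpowers z, u * n * u⁻¹ = n := by
      rintro _ ⟨i, rfl⟩
      simp only
      rw [((show Commute u z from hzc u huP).zpow_right i).eq, mul_inv_cancel_right]
    refine ⟨fun hn => by rw [hu' n hn]; exact hn, fun hn => ?_⟩
    have := hu' _ hn
    have hcancel : u * n * u⁻¹ = n := by
      have e2 := congrArg (fun t => u⁻¹ * t * u) this
      simp only [mul_assoc, inv_mul_cancel_left, inv_mul_cancel, mul_one] at e2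
      rw [mul_assoc]
      exact e2
    rw [hcancel] at hn
    exact hn
  have hE0le : Nat.card E₀ ≤ p ^ 2 := by
    refine (card_sup_le hnU).trans ?_
    rw [sq, hzcard]
    exact Nat.mul_le_mul le_rfl (card_zpowers_le (hexp u huP))
  have hE0ge : p ^ 2 ≤ Nat.card E₀ := pow_succ_le (hP.to_le hE0P) (A := zpowers z)
    (by rw [pow_one, hzcard]) (lt_of_le_of_ne le_sup_left fun e =>
      huz (e ▸ mem_sup_right (mem_zpowers u)))
  have hE0c : ∀ a ∈ E₀, ∀ b ∈ E₀, a * b = b * a := by
    have heq : E₀ ≤ closure ({z, u} : Set G) :=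
      sup_le (zpowers_le.2 (subset_closure (by simp))) (zpowers_le.2 (subset_closure (by simp)))
    intro a ha b hb
    refine closure_commutes ?_ a (heq ha) b (heq hb)
    rintro x (hx | hx) y (hy | hy) <;> subst x y <;>
      first | rfl | exact hzc u huP | exact (hzc u huP).symm
  -- a non-abelian subgroup of order `p ^ 3`
  have hvn : zpowers v ≤ normalizer (E₀ : Set G) := by
    refine zpowers_le.2 ?_
    have hmap : E₀.map (MulAut.conj v).toMonoidHom ≤ E₀ := by
      refine map_le_iff_le_comap.2 (sup_le (zpowers_le.2 ?_) (zpowers_le.2 ?_))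
      · show v * z * v⁻¹ ∈ E₀
        rw [hzc v hvP, mul_inv_cancel_right]
        exact mem_sup_left (mem_zpowers z)
      · show v * u * v⁻¹ ∈ E₀
        have : v * u * v⁻¹ = (u * v * u⁻¹ * v⁻¹)⁻¹ * u := by group
        rw [this]
        exact mul_mem (inv_mem (mem_sup_left (mem_zpowers z))) (mem_sup_right (mem_zpowers u))
    have hmeq : E₀.map (MulAut.conj v).toMonoidHom = E₀ :=
      eq_of_le_of_card_ge hmap (Nat.card_congr
        (E₀.equivMapOfInjective _ (MulAut.conj v).injective).toEquiv).le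
    refine mem_normalizer_iff.2 fun n => ⟨fun hn => hmap ⟨n, hn, rfl⟩, fun hn => ?_⟩
    rw [← hmeq] at hn
    obtain ⟨m, hm, hm'⟩ := hn
    obtain rfl := (MulAut.conj v).injective hm'
    exact hm
  have hvE : v ∉ E₀ := fun hm => hvu (hE0c v hm u (mem_sup_right (mem_zpowers u)))
  let K : Subgroup G := E₀ ⊔ zpowers v
  have hKP : K ≤ P := sup_le hE0P (zpowers_le.2 hvP)
  have hK : Nat.card K = p ^ 3 := by
    refine le_antisymm ((card_sup_le hvn).trans ?_) (pow_succ_le (hP.to_le hKP) hE0ge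
      (lt_of_le_of_ne le_sup_left fun e => hvE (e ▸ mem_sup_right (mem_zpowers v))))
    rw [pow_succ]
    exact Nat.mul_le_mul hE0le (card_zpowers_le (hexp v hvP))
  have habel : ∀ A : Subgroup G, A ≤ P → (∀ a ∈ A, ∀ b ∈ A, a * b = b * a) →
      Nat.card A ≤ p ^ 2 := by
    intro A hAP hAc
    by_contra hlt
    push Not at hlt
    obtain ⟨n, hn⟩ := IsPGroup.iff_card.1 (hP.to_le hAP)
    rw [hn] at hlt
    have hn3 := (Nat.pow_lt_pow_iff_right hp.out.one_lt).1 hlt
    obtain ⟨A', hA', hA'c⟩ := exists_sub_card (hP.to_le hAP) (k := 3)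
      (by rw [hn]; exact Nat.pow_le_pow_right hp.out.pos hn3)
    exact hvu (h.commutes (hP.to_le (hA'.trans hAP)) (hP.to_le hKP) (hA'c.trans hK.symm)
      (fun a ha b hb => hAc a (hA' ha) b (hA' hb)) v (mem_sup_right (mem_zpowers v)) u
      (mem_sup_left (mem_sup_right (mem_zpowers u))))
  have habsq : ∀ E : Subgroup G, Nat.card E = p ^ 2 → ∀ e ∈ E, ∀ f ∈ E, e * f = f * e := by
    intro E hE e he f hf
    haveI := IsPGroup.isMulCommutative_of_card_eq_prime_sq (p := p) (G := E) hE
    exact setLike_mul_comm he hf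
  have hself : ∀ E : Subgroup G, E ≤ P → Nat.card E = p ^ 2 →
      ∀ g ∈ P, (∀ e ∈ E, g * e = e * g) → g ∈ E := by
    intro E hEP hE g hg hge
    by_contra hgE
    let A : Subgroup G := closure ((E : Set G) ∪ {g})
    have hAP : A ≤ P := (closure_le _).2 (by
      rintro x (hx | rfl)
      exacts [hEP hx, hg])
    have h1 := habel A hAP (closure_commutes (by
      rintro a (ha | rfl) b (hb | rfl)
      exacts [habsq E hE a ha b hb, (hge a ha).symm, hge b hb, rfl]))
    have h2 := pow_succ_le (hP.to_le hAP) hE.ge (lt_of_le_of_ne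
      (fun x hx => subset_closure (Or.inl hx)) fun e => hgE (e ▸ subset_closure (Or.inr rfl)))
    have h3 : p ^ 2 < p ^ 3 := Nat.pow_lt_pow_right hp.out.one_lt (by norm_num)
    exact absurd (h2.trans h1) (not_le.2 h3)
  have hE0 : Nat.card E₀ = p ^ 2 := le_antisymm hE0le hE0ge
  have hcentre : ∀ w ∈ P, (∀ g ∈ P, g * w = w * g) → w ∈ zpowers z := by
    intro w hwP hw
    have hwE : w ∈ E₀ := hself E₀ hE0P hE0 w hwP fun e he => (hw e (hE0P he)).symm
    by_contra hwz
    have hle : zpowers z ⊔ zpowers w ≤ E₀ :=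
      sup_le le_sup_left (zpowers_le.2 hwE)
    have h2 := pow_succ_le (k := 1) (hP.to_le (hle.trans hE0P)) (A := zpowers z)
      (by rw [pow_one, hzcard]) (lt_of_le_of_ne le_sup_left fun e =>
        hwz (e ▸ mem_sup_right (mem_zpowers w)))
    have heq := eq_of_le_of_card_ge hle (hE0le.trans h2)
    have hle2 : zpowers z ⊔ zpowers w ≤ centralizer {v} := by
      refine sup_le (zpowers_le.2 ?_) (zpowers_le.2 ?_)
      · exact mem_centralizer_singleton_iff.2 (hzc v hvP).symm
      · exact mem_centralizer_singleton_iff.2 (hw v hvP).symm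
    have hu' : u ∈ zpowers z ⊔ zpowers w := by rw [heq]; exact mem_sup_right (mem_zpowers u)
    have := mem_centralizer_singleton_iff.1 (hle2 hu')
    exact hvu this.symm
  -- the commutator map with `u`
  have hum : ∀ g ∈ P, u * g * u⁻¹ * g⁻¹ ∈ zpowers z := fun g hg =>
    hcentre _ (mul_mem (mul_mem (mul_mem huP hg) (inv_mem huP)) (inv_mem hg)) (hu2 g hg)
  let f : P →* zpowers z := MonoidHom.mk' (fun g => ⟨u * g * u⁻¹ * (g : G)⁻¹, hum g g.2⟩) (by
    intro a b
    refine Subtype.ext ?_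
    show u * ((a : G) * b) * u⁻¹ * ((a : G) * b)⁻¹ =
      u * a * u⁻¹ * (a : G)⁻¹ * (u * b * u⁻¹ * (b : G)⁻¹)
    calc u * ((a : G) * b) * u⁻¹ * ((a : G) * b)⁻¹
        = u * a * u⁻¹ * ((u * b * u⁻¹ * (b : G)⁻¹) * (a : G)⁻¹) := by group
      _ = u * a * u⁻¹ * ((a : G)⁻¹ * (u * b * u⁻¹ * (b : G)⁻¹)) := by
          rw [hu2 b b.2 _ (inv_mem a.2)]
      _ = _ := by group)
  have hker : Nat.card f.ker ≤ p ^ 2 := by
    rw [← hE0]
    refine Nat.card_le_card_of_injective
      (fun g => (⟨((g : P) : G), hself E₀ hE0P hE0 _ (g : P).2 ?_⟩ : E₀)) ?_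
    · have hg : u * ((g : P) : G) * u⁻¹ * ((g : P) : G)⁻¹ = 1 := congrArg Subtype.val g.2
      rw [mul_inv_eq_one, mul_inv_eq_iff_eq_mul] at hg
      have hle : E₀ ≤ centralizer {((g : P) : G)} :=
        sup_le (zpowers_le.2 (mem_centralizer_singleton_iff.2 (hzc _ (g : P).2).symm))
          (zpowers_le.2 (mem_centralizer_singleton_iff.2 hg))
      exact fun e he => (mem_centralizer_singleton_iff.1 (hle he)).symm
    · intro a b hab
      exact Subtype.ext (Subtype.ext (congrArg (fun x : E₀ => (x : G)) hab))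
  have hPcard : Nat.card P = p ^ 3 := by
    refine le_antisymm ?_ (hK ▸ card_le_of_le hKP)
    rw [← Subgroup.index_mul_card f.ker, Subgroup.index_ker, pow_succ', mul_comm p]
    calc Nat.card f.range * Nat.card f.ker ≤ p * p ^ 2 := by
          refine Nat.mul_le_mul ?_ hker
          exact (card_le_card_group f.range).trans hzcard.le
      _ = p ^ 2 * p := mul_comm _ _
  have hcentcard : Nat.card (Subgroup.center P) = p := by
    refine le_antisymm ?_ ?_
    · rw [← hzcard]
      refine Nat.card_le_card_of_injective (fun w => (⟨((w : P) : G), hcentre _ (w : P).2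
        fun g hg => congrArg Subtype.val (Subgroup.mem_center_iff.1 w.2 ⟨g, hg⟩)⟩ : zpowers z)) ?_
      intro a b hab
      exact Subtype.ext (Subtype.ext (congrArg (fun x : zpowers z => (x : G)) hab))
    · rw [← hzord, ← Subgroup.orderOf_mk z hzP, ← Subgroup.orderOf_mk (⟨z, hzP⟩ : P)
        (Subgroup.mem_center_iff.2 fun g => Subtype.ext (hzc g g.2))]
      exact Nat.le_of_dvd Nat.card_pos (orderOf_dvd_natCard _)
  have hquot : Nat.card (P ⧸ Subgroup.center P) = p ^ 2 := by
    have := Subgroup.index_mul_card (Subgroup.center P)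
    rw [hcentcard, hPcard, pow_succ, Subgroup.index] at this
    exact Nat.eq_of_mul_eq_mul_right hp.out.pos this
  refine ⟨z, hzP, hzord, hzc, ?_, hPcard, ?_, hexp, u, huP, huz⟩
  · intro g hg k hk
    haveI := IsPGroup.isMulCommutative_of_card_eq_prime_sq (p := p) hquot
    have hm : (⟨g, hg⟩ * ⟨k, hk⟩ * ⟨g, hg⟩⁻¹ * ⟨k, hk⟩⁻¹ : P) ∈ Subgroup.center P := by
      rw [← QuotientGroup.eq_one_iff]
      simp only [QuotientGroup.mk_mul, QuotientGroup.mk_inv]
      rw [mul_comm' (QuotientGroup.mk (⟨g, hg⟩ : P) : P ⧸ Subgroup.center P)]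
      group
    exact hcentre _ (mul_mem (mul_mem (mul_mem hg hk) (inv_mem hg)) (inv_mem hk))
      fun a ha => congrArg Subtype.val (Subgroup.mem_center_iff.1 hm ⟨a, ha⟩)
  · intro E hEP hE
    exact ⟨hself E hEP hE, hself E hEP hE z hzP fun e he => (hzc e (hEP he)).symm, habsq E hE⟩

end Cfsg.Agent.Lib.EqualOrderConj
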