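import Cfsg.Agent.Lib.EqualOrderConj.Basic

/-!
# No Sylow subgroup is non-abelian of exponent `p`

An element inverting a subgroup of order `p ^ 2` and normalising the Sylow subgroup would be central
modulo its centraliser in a Sylow `2`-subgroup, while no such Sylow `2`-subgroup fixes that subgroup.
-/

set_option autoImplicit false

namespace Cfsg.Agent.Lib.EqualOrderConj

open Subgroup

variable {G : Type*} [Group G] [Finite G]

/-- In every `2`-group of the three possible shapes a commutator of `x` is `1` or `x * x`. -/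
theorem comm_dichotomy (h : ConjEq 2 G) {S : Subgroup G} (hS : IsPGroup 2 S) :
    ∀ x ∈ S, ∀ y ∈ S, y * x * y⁻¹ * x⁻¹ = 1 ∨ y * x * y⁻¹ * x⁻¹ = x * x := by
  intro x hx y hy
  rcases cyclic_or_q8_or_exponent h hS with hc | ⟨⟨e⟩⟩ | he
  · left
    have := hc.commGroup
    haveI := hc
    have hxy : (⟨y, hy⟩ : S) * ⟨x, hx⟩ = ⟨x, hx⟩ * ⟨y, hy⟩ := by
      obtain ⟨g, hg⟩ := IsCyclic.exists_generator (α := S)
      obtain ⟨i, hi⟩ := hg ⟨x, hx⟩
      obtain ⟨j, hj⟩ := hg ⟨y, hy⟩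
      rw [← hi, ← hj]
      exact zpow_mul_comm g j i
    have hxy' : y * x = x * y := congrArg Subtype.val hxy
    rw [hxy', mul_inv_cancel_right, mul_inv_cancel]
  · have key : ∀ a b : QuaternionGroup 2, b * a * b⁻¹ * a⁻¹ = 1 ∨ b * a * b⁻¹ * a⁻¹ = a * a := by
      decide
    rcases key (e ⟨x, hx⟩) (e ⟨y, hy⟩) with h1 | h1
    · left
      have := e.injective (a₁ := ⟨y, hy⟩ * ⟨x, hx⟩ * ⟨y, hy⟩⁻¹ * ⟨x, hx⟩⁻¹) (a₂ := 1)
        (by rw [map_mul, map_mul, map_mul, map_inv, map_inv, map_one]; exact h1)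
      exact congrArg Subtype.val this
    · right
      have := e.injective (a₁ := ⟨y, hy⟩ * ⟨x, hx⟩ * ⟨y, hy⟩⁻¹ * ⟨x, hx⟩⁻¹)
        (a₂ := ⟨x, hx⟩ * ⟨x, hx⟩)
        (by rw [map_mul, map_mul, map_mul, map_mul, map_inv, map_inv]; exact h1)
      exact congrArg Subtype.val this
  · left
    have hi : ∀ a ∈ S, a⁻¹ = a := fun a ha =>
      inv_eq_of_mul_eq_one_right (by rw [← sq]; exact he a ha)
    have h1 := hi _ (mul_mem hy hx)
    rw [mul_inv_rev, hi x hx, hi y hy] at h1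
    rw [hi x hx, hi y hy, ← h1, mul_assoc x y y]
    have hy2 : y * y = 1 := by rw [← sq]; exact he y hy
    have hx2 : x * x = 1 := by rw [← sq]; exact he x hx
    rw [hy2, mul_one, hx2]

variable {p : ℕ} [hp : Fact p.Prime]

/-- The members of `Λ`: subgroups of order `p ^ 2` of `P`. -/
abbrev Lam (p : ℕ) (P : Subgroup G) := {E : Subgroup G // E ≤ P ∧ Nat.card E = p ^ 2}

theorem Cube.zpowers_le_of {P : Subgroup G} {z : G} (hC : Cube p P z) {E : Subgroup G}
    (hEP : E ≤ P) (hE : Nat.card E = p ^ 2) : zpowers z ≤ E :=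
  zpowers_le.2 (hC.self E hEP hE).2.1

/-- There are `p + 1` subgroups of order `p ^ 2`. -/
theorem Cube.card_lam {P : Subgroup G} {z : G} (hC : Cube p P z) (hP : IsPGroup p P) :
    Nat.card (Lam p P) = p + 1 := by
  classical
  have hzc : Nat.card (zpowers z) = p := by rw [Nat.card_zpowers, hC.ord]
  -- every element outside the centre lies in exactly one member
  have hu : ∀ x : {x : P // (x : G) ∉ zpowers z}, ∃! E : Lam p P, ((x : P) : G) ∈ E.1 := by
    rintro ⟨⟨x, hxP⟩, hx⟩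
    let A : Subgroup G := closure {z, x}
    have hAP : A ≤ P := (closure_le _).2 (by
      rintro y (rfl | rfl)
      exacts [hC.mem, hxP])
    have hAc : ∀ a ∈ A, ∀ b ∈ A, a * b = b * a := closure_commutes (by
      rintro a (ha | ha) b (hb | hb) <;> subst a b <;>
        first | rfl | exact hC.cent x hxP | exact (hC.cent x hxP).symm)
    have hA2 : p ^ 2 ≤ Nat.card A := pow_succ_le (hP.to_le hAP) (A := zpowers z)
      (by rw [pow_one, hzc]) (lt_of_le_of_ne (zpowers_le.2 (subset_closure (by simp)))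
        fun e => hx (by
          have : x ∈ A := subset_closure (by simp)
          rw [← e] at this
          exact this))
    obtain ⟨E, hEA, hE⟩ := exists_sub_card (hP.to_le hAP) hA2
    have hAE : A ≤ E := fun a ha => (hC.self E (hEA.trans hAP) hE).1 a (hAP ha)
      fun e he => hAc a ha e (hEA he)
    refine ⟨⟨E, hEA.trans hAP, hE⟩, hAE (subset_closure (by simp)), ?_⟩
    rintro ⟨F, hFP, hF⟩ hxF
    refine Subtype.ext (eq_of_le_of_card_ge ?_ (by rw [hE, hF])).symm
    refine fun a ha => (hC.self F hFP hF).1 a (hAP (hEA ha)) fun f hf => ?_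
    have hle : A ≤ F := (closure_le _).2 (by
      rintro y (rfl | rfl)
      exacts [(hC.self F hFP hF).2.1, hxF])
    -- `A` is the whole of `E` inside `F`
    exact (hC.self F hFP hF).2.2 a (hle (hEA ha)) f hf
  choose Φ hΦ hΦu using hu
  have aux : ∀ (A B : Lam p P) (_ : A = B) (u : {x : A.1 // (x : G) ∉ zpowers z})
      (v : {x : B.1 // (x : G) ∉ zpowers z}), ((u.1 : A.1) : G) = ((v.1 : B.1) : G) →
      (⟨A, u⟩ : Σ E : Lam p P, {x : E.1 // (x : G) ∉ zpowers z}) = ⟨B, v⟩ := by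
    rintro A _ rfl u v huv
    rw [Subtype.ext (Subtype.ext huv) (a1 := u) (a2 := v)]
  let e : {x : P // (x : G) ∉ zpowers z} ≃ (Σ E : Lam p P, {x : E.1 // (x : G) ∉ zpowers z}) :=
    { toFun := fun x => ⟨Φ x, ⟨⟨_, hΦ x⟩, x.2⟩⟩
      invFun := fun y => ⟨⟨_, y.1.2.1 y.2.1.2⟩, y.2.2⟩
      left_inv := fun x => rfl
      right_inv := by
        rintro ⟨E, ⟨x, hxE⟩, hx⟩
        exact aux _ _ (hΦu ⟨⟨x, E.2.1 hxE⟩, hx⟩ E hxE).symm _ _ rfl }
  have hcount : ∀ H : Subgroup G, zpowers z ≤ H →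
      Nat.card {x : H // (x : G) ∉ zpowers z} + p = Nat.card H := by
    intro H hH
    rw [← Nat.card_congr (Equiv.sumCompl (fun x : H => (x : G) ∉ zpowers z)), Nat.card_sum]
    congr 1
    rw [← hzc]
    exact Nat.card_congr
      { toFun := fun a => ⟨⟨a, hH a.2⟩, fun hn => hn a.2⟩
        invFun := fun a => ⟨a.1, not_not.1 a.2⟩
        left_inv := fun a => rfl
        right_inv := fun a => rfl }
  have h1 := hcount P (zpowers_le.2 hC.mem)
  haveI : Fintype (Lam p P) := Fintype.ofFinite _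
  rw [hC.card, Nat.card_congr e, Nat.card_sigma] at h1
  have h2 : ∀ E : Lam p P, Nat.card {x : E.1 // (x : G) ∉ zpowers z} = p ^ 2 - p := by
    intro E
    have := hcount E.1 (hC.zpowers_le_of E.2.1 E.2.2)
    rw [E.2.2] at this
    omega
  rw [Finset.sum_congr rfl (fun E _ => h2 E), Finset.sum_const, smul_eq_mul,
    Finset.card_univ, ← Nat.card_eq_fintype_card] at h1
  have hp2 := hp.out.two_le
  have h4 : p ≤ p ^ 2 := Nat.le_self_pow two_ne_zero p
  have h3 : Nat.card (Lam p P) * (p ^ 2 - p) = (p + 1) * (p ^ 2 - p) := by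
    have h5 : (p + 1) * (p ^ 2 - p) + p = p ^ 3 := by
      zify [h4]
      ring
    omega
  refine Nat.eq_of_mul_eq_mul_right ?_ h3
  have : p < p ^ 2 := by nlinarith
  omega

/-- Subgroups of order `p ^ 2` of `P` are conjugate in `N(P)`. -/
theorem Cube.conj_in_normalizer (h : ConjEq p G) (P : Sylow p G) {z : G}
    (hC : Cube p (P : Subgroup G) z) {E F : Subgroup G} (hEP : E ≤ P) (hFP : F ≤ P)
    (hE : Nat.card E = p ^ 2) (hF : Nat.card F = p ^ 2) :
    ∃ k ∈ normalizer ((P : Subgroup G) : Set G), F = E.map (MulAut.conj k).toMonoidHom := by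
  obtain ⟨g, hg⟩ := h E F (P.isPGroup'.to_le hEP) (P.isPGroup'.to_le hFP) (by rw [hE, hF])
  let M := normalizer (F : Set G)
  have hnorm : ∀ H : Subgroup G, H ≤ P → Nat.card H = p ^ 2 →
      ∀ x ∈ (P : Subgroup G), ∀ e ∈ H, x * e * x⁻¹ ∈ H := by
    intro H hHP hH x hx e he
    have h1 := hC.zpowers_le_of hHP hH (hC.comm x hx e (hHP he))
    have := mul_mem h1 he
    rwa [inv_mul_cancel_right] at this
  have hPM : (P : Subgroup G) ≤ M := by
    intro x hx
    refine mem_normalizer_iff.2 fun n => ⟨hnorm F hFP hF x hx n, fun hn => ?_⟩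
    have := hnorm F hFP hF x⁻¹ (inv_mem hx) _ hn
    rwa [show x⁻¹ * (x * n * x⁻¹) * x⁻¹⁻¹ = n by group] at this
  have hQM : ((g • P : Sylow p G) : Subgroup G) ≤ M := by
    intro y hy
    rw [Sylow.coe_subgroup_smul] at hy
    obtain ⟨x, hx, rfl⟩ := hy
    refine mem_normalizer_iff.2 fun n => ?_
    rw [hg]
    show n ∈ E.map (MulAut.conj g).toMonoidHom ↔ g * x * g⁻¹ * n * (g * x * g⁻¹)⁻¹ ∈ _
    constructor
    · rintro ⟨e, he, rfl⟩
      refine ⟨x * e * x⁻¹, hnorm E hEP hE x hx e he, ?_⟩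
      show g * (x * e * x⁻¹) * g⁻¹ = _
      simp only [MulEquiv.coe_toMonoidHom, MulAut.conj_apply]
      group
    · rintro ⟨e, he, hee⟩
      refine ⟨x⁻¹ * e * x⁻¹⁻¹, hnorm E hEP hE x⁻¹ (inv_mem hx) e he, ?_⟩
      have hee' : g * e * g⁻¹ = g * x * g⁻¹ * n * (g * x * g⁻¹)⁻¹ := hee
      show g * (x⁻¹ * e * x⁻¹⁻¹) * g⁻¹ = n
      rw [show g * (x⁻¹ * e * x⁻¹⁻¹) * g⁻¹ = (g * x * g⁻¹)⁻¹ * (g * e * g⁻¹) * (g * x * g⁻¹) by group,
        hee']
      group
  obtain ⟨c, hc⟩ := MulAction.exists_smul_eq M ((g • P).subtype hQM) (P.subtype hPM)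
  simp_rw [Sylow.smul_subtype, Subgroup.smul_def, smul_smul] at hc
  · refine ⟨(c : G) * g, ?_, ?_⟩
    · exact Sylow.smul_eq_iff_mem_normalizer.1 (Sylow.subtype_injective hc)
    · have hcF : F.map (MulAut.conj (c : G)).toMonoidHom = F := by
        refine eq_of_le_of_card_ge ?_ (Nat.card_congr
          (F.equivMapOfInjective _ (MulAut.conj (c : G)).injective).toEquiv).le
        rintro _ ⟨f, hf, rfl⟩
        exact (mem_normalizer_iff.1 c.2 f).1 hf
      rw [map_mul]
      conv_lhs => rw [← hcF, hg, map_map]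
      rfl

/-- Some element of `N(E)` moves the centre of `P`. -/
theorem Cube.exists_move (h : ConjEq p G) (P : Sylow p G) {z : G}
    (hC : Cube p (P : Subgroup G) z) {E : Subgroup G} (hEP : E ≤ P) (hE : Nat.card E = p ^ 2) :
    ∃ n ∈ normalizer (E : Set G), n * z * n⁻¹ ∉ zpowers z := by
  by_contra hcon
  push Not at hcon
  have hzc : Nat.card (zpowers z) = p := by rw [Nat.card_zpowers, hC.ord]
  obtain ⟨e, he, hez⟩ : ∃ e ∈ E, e ∉ zpowers z := by
    by_contra h'
    push Not at h'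
    have := card_le_of_le (show E ≤ zpowers z from h')
    rw [hE, hzc] at this
    nlinarith [hp.out.two_le]
  have heord : orderOf e = p :=
    orderOf_eq_prime (hC.exp e (hEP he)) fun e1 => hez (e1 ▸ one_mem _)
  obtain ⟨g, hg⟩ := h (zpowers e) (zpowers z) (P.isPGroup'.to_le (zpowers_le.2 (hEP he)))
    (P.isPGroup'.to_le (zpowers_le.2 hC.mem)) (by rw [hzc, Nat.card_zpowers, heord])
  -- `g E g⁻¹` centralises `z`
  let C := centralizer ({z} : Set G)
  have hPC : (P : Subgroup G) ≤ C := fun x hx => mem_centralizer_singleton_iff.2 (hC.cent x hx)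
  have hgeC : ∀ a ∈ E, g * a * g⁻¹ ∈ C := by
    intro a ha
    refine mem_centralizer_singleton_iff.2 ?_
    obtain ⟨i, hi⟩ : z ∈ (zpowers e).map (MulAut.conj g).toMonoidHom := hg ▸ mem_zpowers z
    obtain ⟨hi, hi'⟩ := hi
    have hz' : z = g * i * g⁻¹ := hi'.symm
    rw [hz']
    have hia : a * i = i * a := (hC.self E hEP hE).2.2 a ha i (zpowers_le.2 he hi)
    calc g * a * g⁻¹ * (g * i * g⁻¹) = g * (a * i) * g⁻¹ := by group
      _ = g * (i * a) * g⁻¹ := by rw [hia]
      _ = g * i * g⁻¹ * (g * a * g⁻¹) := by group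
  -- move it into `P` inside `C`
  have hEg : IsPGroup p ((E.map (MulAut.conj g).toMonoidHom).subgroupOf C) :=
    ((P.isPGroup'.to_le hEP).map _).comap_of_injective C.subtype C.subtype_injective
  obtain ⟨Q, hQ⟩ := hEg.exists_le_sylow
  obtain ⟨c, hc⟩ := MulAction.exists_smul_eq C Q (P.subtype hPC)
  have hcP : ∀ a ∈ E, (c : G) * (g * a * g⁻¹) * (c : G)⁻¹ ∈ (P : Subgroup G) := by
    intro a ha
    have h1 : (⟨g * a * g⁻¹, hgeC a ha⟩ : C) ∈ (Q : Subgroup C) :=
      hQ (mem_subgroupOf.2 ⟨a, ha, rfl⟩)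
    have h2 : c * ⟨g * a * g⁻¹, hgeC a ha⟩ * c⁻¹ ∈ ((c • Q : Sylow p C) : Subgroup C) := by
      rw [Sylow.coe_subgroup_smul]
      exact ⟨_, h1, rfl⟩
    rw [hc, Sylow.coe_subtype, mem_subgroupOf] at h2
    exact h2
  let m : G := (c : G) * g
  have hm : ∀ a ∈ E, m * a * m⁻¹ ∈ (P : Subgroup G) := by
    intro a ha
    have := hcP a ha
    rwa [show (c : G) * (g * a * g⁻¹) * (c : G)⁻¹ = m * a * m⁻¹ by simp only [m]; group] at this
  obtain ⟨k, hk, hkE⟩ := hC.conj_in_normalizer h P hEP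
    (F := E.map (MulAut.conj m).toMonoidHom)
    (by rintro _ ⟨a, ha, rfl⟩; exact hm a ha) hE
    (by
      rw [← hE]
      exact Nat.card_congr (E.equivMapOfInjective _ (MulAut.conj m).injective).toEquiv.symm)
  -- `k⁻¹ m` normalises `E`
  have hkm : k⁻¹ * m ∈ normalizer (E : Set G) := by
    refine mem_normalizer_iff.2 fun n => ⟨fun hn => ?_, fun hn => ?_⟩
    · have : m * n * m⁻¹ ∈ E.map (MulAut.conj k).toMonoidHom := hkE ▸ ⟨n, hn, rfl⟩
      obtain ⟨a, ha, hka⟩ := this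
      have hka' : k * a * k⁻¹ = m * n * m⁻¹ := hka
      rw [show k⁻¹ * m * n * (k⁻¹ * m)⁻¹ = k⁻¹ * (m * n * m⁻¹) * k by group, ← hka']
      simpa [mul_assoc] using ha
    · have : k * (k⁻¹ * m * n * (k⁻¹ * m)⁻¹) * k⁻¹ ∈ E.map (MulAut.conj m).toMonoidHom :=
        hkE.symm ▸ ⟨_, hn, rfl⟩
      obtain ⟨a, ha, hma⟩ := this
      have hma' : m * a * m⁻¹ = m * n * m⁻¹ := by
        rw [show m * n * m⁻¹ = k * (k⁻¹ * m * n * (k⁻¹ * m)⁻¹) * k⁻¹ by group]
        exact hma
      exact mul_left_cancel (mul_right_cancel hma') ▸ ha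
  -- `k` and `k⁻¹ m` fix `⟨z⟩`, hence so does `g`
  have hkz : ∀ k ∈ normalizer ((P : Subgroup G) : Set G), k * z * k⁻¹ ∈ zpowers z := by
    intro k hk
    obtain ⟨u, hu, huz⟩ := hC.outer
    by_contra hnot
    let A : Subgroup G := zpowers z ⊔ zpowers (k * z * k⁻¹)
    have hkzP : k * z * k⁻¹ ∈ (P : Subgroup G) := (mem_normalizer_iff.1 hk z).1 hC.mem
    have hcent : ∀ x ∈ (P : Subgroup G), x * (k * z * k⁻¹) = k * z * k⁻¹ * x := by
      intro x hx
      have hx' : k⁻¹ * x * k ∈ (P : Subgroup G) := by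
        have := (mem_normalizer_iff.1 (inv_mem hk) x).1 hx
        simpa using this
      calc x * (k * z * k⁻¹) = k * (k⁻¹ * x * k * z) * k⁻¹ := by group
        _ = k * (z * (k⁻¹ * x * k)) * k⁻¹ := by rw [hC.cent _ hx']
        _ = _ := by group
    have hAP : A ≤ P := sup_le (zpowers_le.2 hC.mem) (zpowers_le.2 hkzP)
    have hA2 : p ^ 2 ≤ Nat.card A := pow_succ_le (P.isPGroup'.to_le hAP) (A := zpowers z)
      (by rw [pow_one, hzc]) (lt_of_le_of_ne le_sup_left fun e =>
        hnot (by rw [e]; exact mem_sup_right (mem_zpowers _)))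
    obtain ⟨A', hA', hA'c⟩ := exists_sub_card (P.isPGroup'.to_le hAP) hA2
    have hAc : A ≤ centralizer ((P : Subgroup G) : Set G) :=
      sup_le (zpowers_le.2 (mem_centralizer_iff.2 hC.cent))
        (zpowers_le.2 (mem_centralizer_iff.2 hcent))
    have hPA : (P : Subgroup G) ≤ A' := fun x hx =>
      (hC.self A' (hA'.trans hAP) hA'c).1 x hx fun a ha => mem_centralizer_iff.1 (hAc (hA' ha)) x hx
    have := card_le_of_le hPA
    rw [hC.card, hA'c] at this
    exact absurd this (not_le.2 (Nat.pow_lt_pow_right hp.out.one_lt (by norm_num)))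
  have hN := hcon _ hkm
  obtain ⟨i, hi, hgi⟩ : z ∈ (zpowers e).map (MulAut.conj g).toMonoidHom := hg ▸ mem_zpowers z
  have hgi' : g * i * g⁻¹ = z := hgi
  -- `m` maps `e'` to `z`
  have hmi : m * i * m⁻¹ = z := by
    show (c : G) * g * i * ((c : G) * g)⁻¹ = z
    rw [show (c : G) * g * i * ((c : G) * g)⁻¹ = (c : G) * (g * i * g⁻¹) * (c : G)⁻¹ by group, hgi',
      mem_centralizer_singleton_iff.1 c.2, mul_inv_cancel_right]
  obtain ⟨j, hj⟩ := hkz k⁻¹ (inv_mem hk)
  have hji : k⁻¹ * m * i * (k⁻¹ * m)⁻¹ ∈ zpowers z := by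
    rw [show k⁻¹ * m * i * (k⁻¹ * m)⁻¹ = k⁻¹ * (m * i * m⁻¹) * k⁻¹⁻¹ by group, hmi]
    exact ⟨j, hj⟩
  -- conjugation by `k⁻¹ m` preserves `⟨z⟩`
  have hmap : (zpowers z).map (MulAut.conj (k⁻¹ * m)).toMonoidHom = zpowers z := by
    refine eq_of_le_of_card_ge ?_ (Nat.card_congr
      ((zpowers z).equivMapOfInjective _ (MulAut.conj (k⁻¹ * m)).injective).toEquiv).le
    rw [MonoidHom.map_zpowers]
    exact zpowers_le.2 hN
  rw [← hmap] at hji
  obtain ⟨w, hw, hwi⟩ := hji
  have hiw : w = i := (MulAut.conj (k⁻¹ * m)).injective hwi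
  have hi1 : i ≠ 1 := by
    intro h1
    rw [h1, mul_one, mul_inv_cancel] at hgi'
    exact hp.out.one_lt.ne (by rw [← hC.ord, ← hgi', orderOf_one])
  -- so `e` is a power of `z`
  apply hez
  have hie : zpowers e = zpowers i := by
    refine (eq_of_le_of_card_ge (zpowers_le.2 hi) ?_).symm
    rw [Nat.card_zpowers, Nat.card_zpowers, heord,
      orderOf_eq_prime (hC.exp i ((zpowers_le.2 (hEP he)) hi)) hi1]
  have hle : zpowers i ≤ zpowers z := zpowers_le.2 (hiw ▸ hw)
  rw [← hie] at hle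
  exact hle (mem_zpowers e)

/-- A subgroup of exponent `p` Sylow subgroup is abelian. -/
theorem commutative_of_exponent (h : ∀ q : ℕ, q.Prime → ConjEq q G) (P : Sylow p G)
    (hexp : ∀ x ∈ (P : Subgroup G), x ^ p = 1) :
    ∀ x ∈ (P : Subgroup G), ∀ y ∈ (P : Subgroup G), x * y = y * x := by
  by_contra hna
  obtain ⟨z, hC⟩ := exists_cube (h p hp.out) P.isPGroup' hexp hna
  have hodd : Odd p := by
    refine hp.out.odd_of_ne_two ?_
    rintro rfl
    apply hna
    intro x hx y hy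
    have hi : ∀ a ∈ (P : Subgroup G), a⁻¹ = a := fun a ha =>
      inv_eq_of_mul_eq_one_right (by rw [← sq]; exact hexp a ha)
    have := hi _ (mul_mem hx hy)
    rw [mul_inv_rev, hi x hx, hi y hy] at this
    exact this.symm
  -- a subgroup `E` of order `p ^ 2` and its basis `z, w`
  obtain ⟨E, hEP, hE⟩ := exists_sub_card P.isPGroup' (k := 2)
    (by rw [hC.card]; exact Nat.pow_le_pow_right hp.out.pos (by norm_num))
  obtain ⟨hEself, hzE, hEc⟩ := hC.self E hEP hE
  obtain ⟨n, hn, hnz⟩ := hC.exists_move (h p hp.out) P hEP hE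
  have hzc : Nat.card (zpowers z) = p := by rw [Nat.card_zpowers, hC.ord]
  have hPn : (P : Subgroup G) ≤ normalizer (E : Set G) := by
    have key : ∀ x ∈ (P : Subgroup G), ∀ e ∈ E, x * e * x⁻¹ ∈ E := by
      intro x hx e he
      have h1 := hC.zpowers_le_of hEP hE (hC.comm x hx e (hEP he))
      have := mul_mem h1 he
      rwa [inv_mul_cancel_right] at this
    intro x hx
    refine mem_normalizer_iff.2 fun a => ⟨key x hx a, fun ha => ?_⟩
    have := key x⁻¹ (inv_mem hx) _ ha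
    rwa [show x⁻¹ * (x * a * x⁻¹) * x⁻¹⁻¹ = a by group] at this
  -- transvections with prescribed effect
  have trans : ∀ v ∈ E, v ∉ zpowers z → ∀ c ∈ zpowers z,
      ∃ a ∈ (P : Subgroup G), a * v * a⁻¹ = c * v := by
    intro v hv hvz c hc
    obtain ⟨x, hxP, hxv⟩ : ∃ x ∈ (P : Subgroup G), x * v ≠ v * x := by
      by_contra hall
      push Not at hall
      apply hvz
      -- a central element of `P` in `E` generates with `z` all of `E`
      by_contra hvz'
      let A : Subgroup G := zpowers z ⊔ zpowers v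
      have hA2 := pow_succ_le (P.isPGroup'.to_le
          (sup_le (zpowers_le.2 hC.mem) (zpowers_le.2 (hEP hv)) : A ≤ P)) (A := zpowers z)
        (by rw [pow_one, hzc]) (lt_of_le_of_ne le_sup_left fun e =>
          hvz' (by rw [e]; exact mem_sup_right (mem_zpowers _)))
      have hAE : A = E := eq_of_le_of_card_ge (sup_le (zpowers_le.2 hzE) (zpowers_le.2 hv))
        (by rw [hE]; exact hA2)
      have hAc : A ≤ centralizer ((P : Subgroup G) : Set G) :=
        sup_le (zpowers_le.2 (mem_centralizer_iff.2 hC.cent))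
          (zpowers_le.2 (mem_centralizer_iff.2 hall))
      have hPE : (P : Subgroup G) ≤ E := fun x hx => hEself x hx fun e he => by
        rw [← hAE] at he
        exact mem_centralizer_iff.1 (hAc he) x hx
      have := card_le_of_le hPE
      rw [hC.card, hE] at this
      exact absurd this (not_le.2 (Nat.pow_lt_pow_right hp.out.one_lt (by norm_num)))
    let c₀ : G := x * v * x⁻¹ * v⁻¹
    have hc₀ : c₀ ∈ zpowers z := hC.comm x hxP v (hEP hv)
    have hc₀1 : c₀ ≠ 1 := fun e => hxv (by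
      have : x * v * x⁻¹ * v⁻¹ = 1 := e
      rwa [mul_inv_eq_one, mul_inv_eq_iff_eq_mul] at this)
    have hgen : c ∈ zpowers c₀ := by
      rw [show zpowers c₀ = zpowers z from eq_of_le_of_card_ge (zpowers_le.2 hc₀) (by
        rw [hzc, Nat.card_zpowers, orderOf_eq_prime (hC.exp c₀
          (zpowers_le.2 hC.mem hc₀)) hc₀1])]
      exact hc
    obtain ⟨i, hi⟩ := (isOfFinOrder_of_finite c₀).mem_powers_iff_mem_zpowers.2 hgen
    refine ⟨x ^ i, pow_mem hxP i, ?_⟩
    have hcx : x * c₀ = c₀ * x := by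
      obtain ⟨j, hj⟩ := hc₀
      rw [← hj]
      exact ((show Commute x z from hC.cent x hxP).zpow_right j).eq
    have key : ∀ i : ℕ, x ^ i * v * (x ^ i)⁻¹ = c₀ ^ i * v := by
      intro i
      induction i with
      | zero => simp
      | succ i ih =>
        have hci : x * c₀ ^ i = c₀ ^ i * x := ((show Commute x c₀ from hcx).pow_right i).eq
        have hx1 : x * v * x⁻¹ = c₀ * v := (inv_mul_cancel_right (x * v * x⁻¹) v).symm
        calc x ^ (i + 1) * v * (x ^ (i + 1))⁻¹ = x * (x ^ i * v * (x ^ i)⁻¹) * x⁻¹ := by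
              rw [pow_succ']; group
          _ = x * c₀ ^ i * (v * x⁻¹) := by rw [ih]; group
          _ = c₀ ^ i * (x * v * x⁻¹) := by rw [hci]; group
          _ = c₀ ^ (i + 1) * v := by rw [hx1, pow_succ]; group
    have hi' : c₀ ^ i = c := hi
    rw [key, hi']
  let w : G := n * z * n⁻¹
  have hw : w ∈ E := (mem_normalizer_iff.1 hn z).1 hzE
  obtain ⟨a, ha, haw⟩ := trans w hw hnz z (mem_zpowers z)
  let v : G := n⁻¹ * z * n
  have hv : v ∈ E := by simpa using (mem_normalizer_iff.1 (inv_mem hn) z).1 hzE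
  have hvz : v ∉ zpowers z := by
    intro hvz
    apply hnz
    have hmap : (zpowers z).map (MulAut.conj n⁻¹).toMonoidHom = zpowers z := by
      refine eq_of_le_of_card_ge ?_ (Nat.card_congr
        ((zpowers z).equivMapOfInjective _ (MulAut.conj n⁻¹).injective).toEquiv).le
      rw [MonoidHom.map_zpowers]
      refine zpowers_le.2 ?_
      show n⁻¹ * z * n⁻¹⁻¹ ∈ _
      rwa [inv_inv]
    obtain ⟨z', hz', hz'e⟩ : z ∈ (zpowers z).map (MulAut.conj n⁻¹).toMonoidHom := by
      rw [hmap]; exact mem_zpowers z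
    have : n * z * n⁻¹ = z' := by
      have e2 : n⁻¹ * z' * n⁻¹⁻¹ = z := hz'e
      rw [← e2]; group
    rw [this]; exact hz'
  obtain ⟨a', ha', ha'v⟩ := trans v hv hvz z⁻¹ (inv_mem (mem_zpowers z))
  have haz : a * z * a⁻¹ = z := by rw [hC.cent a ha, mul_inv_cancel_right]
  have ha'z : a' * z * a'⁻¹ = z := by rw [hC.cent a' ha', mul_inv_cancel_right]
  have haw' : a * w * a⁻¹ = z * w := haw
  let b : G := n * a' * n⁻¹
  have hbz : b * z * b⁻¹ = w⁻¹ * z := by
    calc b * z * b⁻¹ = n * (a' * v * a'⁻¹) * n⁻¹ := by simp only [b, v]; group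
      _ = n * (z⁻¹ * v) * n⁻¹ := by rw [ha'v]
      _ = w⁻¹ * z := by simp only [v, w]; group
  have hbw : b * w * b⁻¹ = w := by
    calc b * w * b⁻¹ = n * (a' * z * a'⁻¹) * n⁻¹ := by simp only [b, w]; group
      _ = w := by rw [ha'z]
  have hwz : w * z = z * w := hEc w hw z hzE
  let s : G := a * b * a
  have hsz : s * z * s⁻¹ = w⁻¹ := by
    calc s * z * s⁻¹ = a * (b * (a * z * a⁻¹) * b⁻¹) * a⁻¹ := by simp only [s]; group
      _ = a * (b * z * b⁻¹) * a⁻¹ := by rw [haz]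
      _ = (a * w * a⁻¹)⁻¹ * (a * z * a⁻¹) := by rw [hbz]; group
      _ = w⁻¹ := by rw [haw', haz]; group
  have hsw : s * w * s⁻¹ = z := by
    calc s * w * s⁻¹ = a * (b * (a * w * a⁻¹) * b⁻¹) * a⁻¹ := by simp only [s]; group
      _ = a * ((b * z * b⁻¹) * (b * w * b⁻¹)) * a⁻¹ := by rw [haw']; group
      _ = a * (w⁻¹ * z * w) * a⁻¹ := by rw [hbz, hbw]
      _ = a * z * a⁻¹ := by rw [mul_assoc w⁻¹ z w, ← hwz]; group
      _ = z := haz
  let m : G := s * s
  have hmz : m * z * m⁻¹ = z⁻¹ := by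
    calc m * z * m⁻¹ = s * (s * z * s⁻¹) * s⁻¹ := by simp only [m]; group
      _ = (s * w * s⁻¹)⁻¹ := by rw [hsz]; group
      _ = z⁻¹ := by rw [hsw]
  have hmw : m * w * m⁻¹ = w⁻¹ := by
    calc m * w * m⁻¹ = s * (s * w * s⁻¹) * s⁻¹ := by simp only [m]; group
      _ = s * z * s⁻¹ := by rw [hsw]
      _ = w⁻¹ := hsz
  have hEgen : E = zpowers z ⊔ zpowers w := (eq_of_le_of_card_ge
    (sup_le (zpowers_le.2 hzE) (zpowers_le.2 hw)) (by
      rw [hE]
      exact pow_succ_le (P.isPGroup'.to_le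
        (sup_le (zpowers_le.2 hC.mem) (zpowers_le.2 (hEP hw)))) (A := zpowers z)
        (by rw [pow_one, hzc]) (lt_of_le_of_ne le_sup_left fun e =>
          hnz (by rw [e]; exact mem_sup_right (mem_zpowers _))))).symm
  have hminv : ∀ e ∈ E, m * e * m⁻¹ = e⁻¹ := by
    let I : Subgroup G :=
      { carrier := {e | e ∈ E ∧ m * e * m⁻¹ = e⁻¹}
        one_mem' := ⟨one_mem E, by group⟩
        mul_mem' := by
          rintro e f ⟨he, he'⟩ ⟨hf, hf'⟩
          refine ⟨mul_mem he hf, ?_⟩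
          rw [show m * (e * f) * m⁻¹ = (m * e * m⁻¹) * (m * f * m⁻¹) by group, he', hf',
            mul_inv_rev, hEc e⁻¹ (inv_mem he) f⁻¹ (inv_mem hf)]
        inv_mem' := by
          rintro e ⟨he, he'⟩
          refine ⟨inv_mem he, ?_⟩
          rw [show m * e⁻¹ * m⁻¹ = (m * e * m⁻¹)⁻¹ by group, he'] }
    intro e he
    have hle : E ≤ I := by
      rw [hEgen]
      exact sup_le (zpowers_le.2 ⟨hzE, hmz⟩) (zpowers_le.2 ⟨hw, hmw⟩)
    exact (hle he).2
  have hbn : b ∈ normalizer (E : Set G) := mul_mem (mul_mem hn (hPn ha')) (inv_mem hn)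
  have hmN : m ∈ normalizer (E : Set G) :=
    mul_mem (mul_mem (mul_mem (hPn ha) hbn) (hPn ha)) (mul_mem (mul_mem (hPn ha) hbn) (hPn ha))
  -- correct it to normalise `P`
  let CE := centralizer (E : Set G)
  have hPCE : (P : Subgroup G) ≤ normalizer (CE : Set G) :=
    fun x hx => by
      have key : ∀ y ∈ normalizer (E : Set G), ∀ c ∈ CE, y * c * y⁻¹ ∈ CE := by
        intro y hy c hc
        refine mem_centralizer_iff.2 fun e he => ?_
        have he' : y⁻¹ * e * y ∈ E := by simpa using (mem_normalizer_iff.1 (inv_mem hy) e).1 he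
        have := mem_centralizer_iff.1 hc _ he'
        calc e * (y * c * y⁻¹) = y * ((y⁻¹ * e * y) * c) * y⁻¹ := by group
          _ = y * (c * (y⁻¹ * e * y)) * y⁻¹ := by rw [this]
          _ = y * c * y⁻¹ * e := by group
      refine mem_normalizer_iff.2 fun c => ⟨key x (hPn hx) c, fun hc => ?_⟩
      have := key x⁻¹ (inv_mem (hPn hx)) _ hc
      rwa [show x⁻¹ * (x * c * x⁻¹) * x⁻¹⁻¹ = c by group] at this
  let M : Subgroup G := CE ⊔ P
  have hmPM : ((m • P : Sylow p G) : Subgroup G) ≤ M := by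
    intro y hy
    rw [Sylow.coe_subgroup_smul] at hy
    obtain ⟨x, hx, rfl⟩ := hy
    show m * x * m⁻¹ ∈ M
    have hcx : (m * x * m⁻¹) * x⁻¹ ∈ CE := by
      refine mem_centralizer_iff.2 fun e he => ?_
      have he' : x⁻¹ * e * x ∈ E := by simpa using (mem_normalizer_iff.1 (hPn (inv_mem hx)) e).1 he
      have key : (m * x * m⁻¹ * x⁻¹) * e * (m * x * m⁻¹ * x⁻¹)⁻¹ = e := by
        calc (m * x * m⁻¹ * x⁻¹) * e * (m * x * m⁻¹ * x⁻¹)⁻¹
            = m * x * (m⁻¹ * (x⁻¹ * e * x) * m) * x⁻¹ * m⁻¹ := by group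
          _ = m * (x * (x⁻¹ * e * x)⁻¹ * x⁻¹) * m⁻¹ := by
              rw [show m⁻¹ * (x⁻¹ * e * x) * m = (x⁻¹ * e * x)⁻¹ by
                have := hminv _ (inv_mem he')
                rw [inv_inv] at this
                nth_rewrite 1 [← this]; group]
              group
          _ = m * e⁻¹ * m⁻¹ := by group
          _ = e := by rw [hminv _ (inv_mem he), inv_inv]
      exact (mul_inv_eq_iff_eq_mul.1 key).symm
    have := mul_mem (mem_sup_left hcx : _ ∈ M) (mem_sup_right hx : x ∈ M)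
    rwa [inv_mul_cancel_right] at this
  obtain ⟨y, hy⟩ := MulAction.exists_smul_eq M ((m • P).subtype hmPM)
    (P.subtype (le_sup_right : (P : Subgroup G) ≤ M))
  simp_rw [Sylow.smul_subtype, Subgroup.smul_def, smul_smul] at hy
  have hym := Sylow.smul_eq_iff_mem_normalizer.1 (Sylow.subtype_injective hy)
  obtain ⟨x, hx, c, hc, hxc⟩ : ∃ x ∈ (P : Subgroup G), ∃ c ∈ CE, x * c = (y : G) := by
    have h1 : (y : G) ∈ ((P ⊔ CE : Subgroup G) : Set G) := by rw [sup_comm]; exact y.2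
    rw [coe_mul_of_left_le_normalizer_right _ _ hPCE] at h1
    obtain ⟨x, hx, c, hc, e⟩ := h1
    exact ⟨x, hx, c, hc, e⟩
  let t₀ : G := c * m
  have ht₀N : t₀ ∈ normalizer ((P : Subgroup G) : Set G) := by
    have : t₀ = x⁻¹ * ((y : G) * m) := by rw [← hxc]; simp only [t₀]; group
    rw [this]
    exact mul_mem (le_normalizer (inv_mem hx)) hym
  have ht₀ : ∀ e ∈ E, t₀ * e * t₀⁻¹ = e⁻¹ := by
    intro e he
    rw [show t₀ * e * t₀⁻¹ = c * (m * e * m⁻¹) * c⁻¹ by simp only [t₀]; group, hminv e he,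
      ← mem_centralizer_iff.1 hc _ (inv_mem he), mul_inv_cancel_right]
  obtain ⟨j, k, hk, hjk⟩ := Nat.exists_eq_two_pow_mul_odd (n := orderOf t₀) (orderOf_pos t₀).ne'
  let t : G := t₀ ^ k
  have ht : ∀ e ∈ E, t * e * t⁻¹ = e⁻¹ := by
    obtain ⟨i, rfl⟩ := hk
    have key : ∀ i : ℕ, ∀ e ∈ E, t₀ ^ (2 * i + 1) * e * (t₀ ^ (2 * i + 1))⁻¹ = e⁻¹ := by
      intro i
      induction i with
      | zero => intro e he; simpa using ht₀ e he
      | succ i ih =>
        intro e he
        calc t₀ ^ (2 * (i + 1) + 1) * e * (t₀ ^ (2 * (i + 1) + 1))⁻¹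
            = t₀ * (t₀ * (t₀ ^ (2 * i + 1) * e * (t₀ ^ (2 * i + 1))⁻¹) * t₀⁻¹) * t₀⁻¹ := by
              rw [show 2 * (i + 1) + 1 = (2 * i + 1) + 1 + 1 by omega, pow_succ', pow_succ']
              group
          _ = t₀ * (t₀ * e⁻¹ * t₀⁻¹) * t₀⁻¹ := by rw [ih e he]
          _ = e⁻¹ := by rw [ht₀ _ (inv_mem he), inv_inv, ht₀ e he]
    exact key i
  have htN : t ∈ normalizer ((P : Subgroup G) : Set G) := pow_mem ht₀N k
  have ht2 : t ^ (2 ^ j) = 1 := by
    show (t₀ ^ k) ^ (2 ^ j) = 1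
    rw [← pow_mul, mul_comm, ← hjk, pow_orderOf_eq_one]
  -- `t * t` centralises `P`
  have hmem : ∀ x ∈ (P : Subgroup G), x⁻¹ * (t * x * t⁻¹) ∈ E := by
    intro x hx
    have hx' : t * x * t⁻¹ ∈ (P : Subgroup G) := (mem_normalizer_iff.1 htN x).1 hx
    refine hEself _ (mul_mem (inv_mem hx) hx') fun e he => ?_
    obtain ⟨i, hi⟩ := hC.comm x hx e (hEP he)
    have hzi : z ^ i ∈ E := zpow_mem hzE i
    have hi' : x * e * x⁻¹ = z ^ i * e := by rw [show z ^ i = x * e * x⁻¹ * e⁻¹ from hi]; group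
    have h1 : (t * x * t⁻¹) * e⁻¹ * (t * x * t⁻¹)⁻¹ = (z ^ i)⁻¹ * e⁻¹ := by
      calc (t * x * t⁻¹) * e⁻¹ * (t * x * t⁻¹)⁻¹
          = t * x * (t⁻¹ * e⁻¹ * t) * x⁻¹ * t⁻¹ := by group
        _ = t * (x * e * x⁻¹) * t⁻¹ := by
            rw [show t⁻¹ * e⁻¹ * t = e by rw [← ht e he]; group]; group
        _ = (t * z ^ i * t⁻¹) * (t * e * t⁻¹) := by rw [hi']; group
        _ = _ := by rw [ht _ hzi, ht e he]
    have h2 : (t * x * t⁻¹) * e * (t * x * t⁻¹)⁻¹ = x * e * x⁻¹ := by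
      have := congrArg (·⁻¹) h1
      simp only [mul_inv_rev, inv_inv] at this
      rw [hi', hEc _ hzi e he]
      rw [← this]
      group
    calc x⁻¹ * (t * x * t⁻¹) * e
        = x⁻¹ * ((t * x * t⁻¹) * e * (t * x * t⁻¹)⁻¹) * (t * x * t⁻¹) := by group
      _ = e * (x⁻¹ * (t * x * t⁻¹)) := by rw [h2]; group
  have htt : ∀ x ∈ (P : Subgroup G), t * (t * x * t⁻¹) * t⁻¹ = x := by
    intro x hx
    calc t * (t * x * t⁻¹) * t⁻¹
        = (t * x * t⁻¹) * (t * (x⁻¹ * (t * x * t⁻¹)) * t⁻¹) := by group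
      _ = x := by rw [ht _ (hmem x hx)]; group
  -- the Sylow `2`-subgroup of `N(P)` containing `t` fixes `E`
  let NP := normalizer ((P : Subgroup G) : Set G)
  haveI : Fact (Nat.Prime 2) := ⟨Nat.prime_two⟩
  have ht' : IsPGroup 2 (zpowers (⟨t, htN⟩ : NP)) := by
    obtain ⟨i, -, hi⟩ := (Nat.dvd_prime_pow Nat.prime_two).1 (orderOf_dvd_of_pow_eq_one ht2)
    refine IsPGroup.of_card (n := i) ?_
    rw [Nat.card_zpowers, Subgroup.orderOf_mk, hi]
  obtain ⟨T, hT⟩ := ht'.exists_le_sylow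
  obtain ⟨S, hS⟩ := (T.isPGroup'.map NP.subtype).exists_le_sylow
  let Stab : Subgroup NP := (normalizer (E : Set G)).subgroupOf NP
  have hTS : (T : Subgroup NP) ≤ Stab := by
    intro g hg
    have hdich := comm_dichotomy (h 2 Nat.prime_two) S.isPGroup' t
      (hS ⟨⟨t, htN⟩, hT (mem_zpowers _), rfl⟩) (g : G) (hS ⟨g, hg, rfl⟩)
    have hgt : ∀ x ∈ (P : Subgroup G),
        (g : G) * t * (g : G)⁻¹ * x * ((g : G) * t * (g : G)⁻¹)⁻¹ = t * x * t⁻¹ := by
      intro x hx
      rcases hdich with h1 | h1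
      · rw [show (g : G) * t * (g : G)⁻¹ = t from mul_inv_eq_one.1 h1]
      · rw [show (g : G) * t * (g : G)⁻¹ = t * t * t from mul_inv_eq_iff_eq_mul.1 h1]
        have := htt _ ((mem_normalizer_iff.1 htN x).1 hx)
        calc t * t * t * x * (t * t * t)⁻¹ = t * (t * (t * x * t⁻¹) * t⁻¹) * t⁻¹ := by group
          _ = _ := this
    have key : ∀ e ∈ E, (g : G) * e * (g : G)⁻¹ ∈ E := by
      intro e he
      let x : G := (g : G) * e * (g : G)⁻¹
      have hx : x ∈ (P : Subgroup G) := (mem_normalizer_iff.1 g.2 e).1 (hEP he)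
      have hinv : t * x * t⁻¹ = x⁻¹ := by
        rw [← hgt x hx]
        calc (g : G) * t * (g : G)⁻¹ * x * ((g : G) * t * (g : G)⁻¹)⁻¹
            = (g : G) * (t * e * t⁻¹) * (g : G)⁻¹ := by simp only [x]; group
          _ = x⁻¹ := by rw [ht e he]; simp only [x]; group
      have hx2 : x * x ∈ E := by
        have := inv_mem (hmem x hx)
        rwa [hinv, mul_inv_rev, inv_inv] at this
      obtain ⟨r, hr⟩ := hodd
      have hxp := hC.exp x hx
      have : (x * x) ^ (r + 1) = x := by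
        rw [← sq, ← pow_mul, show 2 * (r + 1) = p + 1 by omega, pow_succ, hxp, one_mul]
      show x ∈ E
      rw [← this]
      exact pow_mem hx2 _
    show (g : G) ∈ normalizer (E : Set G)
    have hmap : E.map (MulAut.conj (g : G)).toMonoidHom = E :=
      eq_of_le_of_card_ge (by rintro _ ⟨e, he, rfl⟩; exact key e he)
        (Nat.card_congr (E.equivMapOfInjective _ (MulAut.conj (g : G)).injective).toEquiv).le
    refine mem_normalizer_iff.2 fun a => ⟨key a, fun ha => ?_⟩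
    rw [← hmap] at ha
    obtain ⟨e, he, hee⟩ := ha
    obtain rfl : e = a := (MulAut.conj (g : G)).injective hee
    exact he
  -- but `N(P)` is transitive on the `p + 1` members
  have hbij : Nat.card (NP ⧸ Stab) = p + 1 := by
    rw [← hC.card_lam P.isPGroup']
    let φ : NP → Lam p (P : Subgroup G) := fun g => ⟨E.map (MulAut.conj (g : G)).toMonoidHom, by
      rintro _ ⟨e, he, rfl⟩
      exact (mem_normalizer_iff.1 g.2 e).1 (hEP he), by
      rw [← hE]
      exact Nat.card_congr (E.equivMapOfInjective _ (MulAut.conj (g : G)).injective).toEquiv.symm⟩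
    have hφ : ∀ g g' : NP, φ g = φ g' ↔ g⁻¹ * g' ∈ Stab := by
      intro g g'
      have hS' : g⁻¹ * g' ∈ Stab ↔ E.map (MulAut.conj ((g : G)⁻¹ * g')).toMonoidHom = E := by
        show (g : G)⁻¹ * g' ∈ normalizer (E : Set G) ↔ _
        constructor
        · intro hm
          refine eq_of_le_of_card_ge ?_
            (Nat.card_congr (E.equivMapOfInjective _ (MulAut.conj _).injective).toEquiv).le
          rintro _ ⟨e, he, rfl⟩
          exact (mem_normalizer_iff.1 hm e).1 he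
        · intro hm
          refine mem_normalizer_iff.2 fun a => ⟨fun ha => hm ▸ ⟨a, ha, rfl⟩, fun ha => ?_⟩
          rw [← hm] at ha
          obtain ⟨e, he, hee⟩ := ha
          obtain rfl : e = a := (MulAut.conj _).injective hee
          exact he
      rw [hS', map_mul, Subtype.ext_iff]
      show E.map _ = E.map _ ↔ _
      rw [show ((MulAut.conj (g : G)⁻¹ * MulAut.conj (g' : G))).toMonoidHom =
        (MulAut.conj (g : G)⁻¹).toMonoidHom.comp (MulAut.conj (g' : G)).toMonoidHom from rfl,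
        ← map_map, map_inv]
      constructor
      · intro e
        rw [← e, map_map, show ((MulAut.conj (g : G))⁻¹).toMonoidHom.comp
          (MulAut.conj (g : G)).toMonoidHom = MonoidHom.id G from
          MonoidHom.ext fun a => (MulAut.conj (g : G)).symm_apply_apply a, map_id]
      · intro e
        conv_lhs => rw [← e, map_map, show (MulAut.conj (g : G)).toMonoidHom.comp
          ((MulAut.conj (g : G))⁻¹).toMonoidHom = MonoidHom.id G from
          MonoidHom.ext fun a => (MulAut.conj (g : G)).apply_symm_apply a, map_id]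
    refine Nat.card_eq_of_bijective (Quotient.lift φ fun g g' hgg => (hφ g g').2
      (QuotientGroup.leftRel_apply.1 hgg)) ⟨?_, ?_⟩
    · rintro ⟨g⟩ ⟨g'⟩ e
      exact Quotient.sound (QuotientGroup.leftRel_apply.2 ((hφ g g').1 e))
    · rintro ⟨F, hFP, hF⟩
      obtain ⟨k, hk, rfl⟩ := hC.conj_in_normalizer (h p hp.out) P hEP hFP hE hF
      exact ⟨QuotientGroup.mk ⟨k, hk⟩, rfl⟩
  apply T.not_dvd_index
  refine dvd_trans ?_ (Subgroup.index_dvd_of_le hTS)
  rw [Subgroup.index, hbij]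
  exact even_iff_two_dvd.1 hodd.add_one

end Cfsg.Agent.Lib.EqualOrderConj
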